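import Mathlib

/-!
# S2444 (Thompson): every element of `SL_n(F_q)` is a commutator — definitions

Helper62's farm for S2444.  All linear algebra is over an arbitrary field `F`, on an abstract
finite-dimensional space `V`.
-/

set_option autoImplicit false

namespace Cfsg.Agent.Helper62.Ore

open Polynomial Module

variable {F : Type*} [Field F] {V : Type*} [AddCommGroup V] [Module F V]

/-- `v, M v, …, M^(n-1) v` are linearly independent (for `n = dim V`: `v` is a cyclic vector). -/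
def Cyc (n : ℕ) (M : Module.End F V) (v : V) : Prop :=
  LinearIndependent F (fun i : Fin n => (M ^ (i : ℕ)) v)

/-- `f` is monic of degree `n` and `f(M) v = 0`. -/
def Rel (n : ℕ) (M : Module.End F V) (v : V) (f : F[X]) : Prop :=
  f.Monic ∧ f.natDegree = n ∧ (Polynomial.aeval M f) v = 0

/-- `v ↦ A⁻¹ (v - s⁻¹ ε(A⁻¹ v) z)`. -/
noncomputable def PiMap (A : V ≃ₗ[F] V) (ε : Module.Dual F V) (z : V) (s : F) : V →ₗ[F] V :=
  (A.symm : V →ₗ[F] V) ∘ₗ
    (LinearMap.id - s⁻¹ • (ε.comp (A.symm : V →ₗ[F] V)).smulRight z)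

theorem PiMap_apply (A : V ≃ₗ[F] V) (ε : Module.Dual F V) (z : V) (s : F) (v : V) :
    PiMap A ε z s v = A.symm (v - (s⁻¹ * ε (A.symm v)) • z) := by
  simp [PiMap, LinearMap.smulRight_apply, smul_smul]

theorem PiMap_mem_ker (A : V ≃ₗ[F] V) (ε : Module.Dual F V) (z : V) (s : F) (hs : s ≠ 0)
    (hz : ε (A.symm z) = s) (v : V) : PiMap A ε z s v ∈ LinearMap.ker ε := by
  rw [LinearMap.mem_ker, PiMap_apply, map_sub, map_smul, map_sub, map_smul, hz, smul_eq_mul]
  field_simp
  ring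

/-- The compression `Γ` of `A⁻¹` to the hyperplane `ker ε`. -/
noncomputable def GammaMap (A : V ≃ₗ[F] V) (ε : Module.Dual F V) (z : V) (s : F) (hs : s ≠ 0)
    (hz : ε (A.symm z) = s) : Module.End F ↥(LinearMap.ker ε) :=
  (PiMap A ε z s).restrict (fun x _ => PiMap_mem_ker A ε z s hs hz x)

theorem GammaMap_coe (A : V ≃ₗ[F] V) (ε : Module.Dual F V) (z : V) (s : F) (hs : s ≠ 0)
    (hz : ε (A.symm z) = s) (h : ↥(LinearMap.ker ε)) :
    ((GammaMap A ε z s hs hz h : ↥(LinearMap.ker ε)) : V) = PiMap A ε z s (h : V) := rfl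

end Cfsg.Agent.Helper62.Ore
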