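import Mathlib
import Cfsg.Agent.Helper62.Ore.Defs
import Cfsg.Agent.Helper73.OreCDAT2
import Cfsg.Agent.Helper79.OreUTN
import Cfsg.Agent.Helper72.OreUTC
import Cfsg.Agent.Helper85.OreQC
import Cfsg.Agent.Helper24.OreQK

/-!
# S2444: Claim C and the key lemma (Q), assembled from the farmed pieces
-/

set_option autoImplicit false

namespace Cfsg.Agent.Helper62.Ore

open Polynomial Module

variable {F : Type*} [Field F] {V : Type*} [AddCommGroup V] [Module F V]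

/-- Claim C. -/
theorem claimC {P : Type*} [AddCommGroup P] [Module F P] [FiniteDimensional F P]
    {l : ℕ} (hl : finrank F P = l) (R : P ≃ₗ[F] P) :
    ∃ (Δ : Module.End F P) (c : P), IsNilpotent Δ ∧ Cyc l ((R : P →ₗ[F] P) ∘ₗ Δ) c := by
  obtain ⟨p, Δ, hp, h1, h2, h3⟩ := Cfsg.Agent.Helper73.OreB.claimC_datum hl R
  have hnil : IsNilpotent Δ := Cfsg.Agent.Helper79.Ore.nilpotent_of_strictUT hl p hp Δ h1
  cases l with
  | zero =>
    refine ⟨Δ, 0, hnil, ?_⟩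
    unfold Cyc
    exact linearIndependent_empty_type
  | succ l =>
    refine ⟨Δ, p (Fin.last l), hnil, ?_⟩
    exact Cfsg.Agent.Helper72.Ore.cyc_of_UT hl p hp _ (fun j => by simpa using h2 j) (fun j hj => by simpa using h3 j hj)

/-- existence of `K`. -/
theorem exists_K {W : Type*} [AddCommGroup W] [Module F W] [FiniteDimensional F W]
    {m : ℕ} (hm : finrank F W = m + 1) (Γ : Module.End F W)
    (hker : finrank F (LinearMap.ker Γ) = 1)
    (hdisj : Disjoint (LinearMap.ker Γ) (LinearMap.range Γ)) :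
    ∃ (K : Module.End F W) (κ b₀ : W), Γ κ = 0 ∧ κ ∉ LinearMap.range Γ ∧
      finrank F (LinearMap.range Γ) = m ∧ (∀ x, K x ∈ LinearMap.range Γ) ∧
      b₀ ∈ LinearMap.range Γ ∧ LinearIndependent F (fun i : Fin m => (K ^ (i : ℕ)) b₀) ∧
      IsNilpotent (Γ ∘ₗ K) := by
  have hrank : finrank F (LinearMap.range Γ) = m := by
    have := LinearMap.finrank_range_add_finrank_ker Γ
    omega
  exact Cfsg.Agent.Helper85.Ore.exists_K_of_claimC hm Γ hker hdisj (fun R => claimC hrank R)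

/-- The key lemma (Q). -/
theorem Qlemma {W : Type*} [AddCommGroup W] [Module F W] [FiniteDimensional F W]
    {m : ℕ} (hm : finrank F W = m + 1) (Γ : Module.End F W)
    (hker : finrank F (LinearMap.ker Γ) = 1)
    (hdisj : Disjoint (LinearMap.ker Γ) (LinearMap.range Γ))
    (f₁ : F[X]) (hf₁ : f₁.Monic) (hdeg : f₁.natDegree = m + 1) (h0 : f₁.coeff 0 ≠ 0) :
    ∃ (Y₁ : W ≃ₗ[F] W) (b : W), Cyc (m + 1) (Y₁ : W →ₗ[F] W) b ∧
      Rel (m + 1) (Y₁ : W →ₗ[F] W) b f₁ ∧ IsNilpotent (Γ ∘ₗ (Y₁.symm : W →ₗ[F] W)) := by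
  obtain ⟨K, κ, b₀, h1, h2, h3, h4, h5, h6, h7⟩ := exists_K hm Γ hker hdisj
  exact Cfsg.Agent.Helper24.Ore.Qlemma_of_K hm Γ K κ b₀ h1 h2 h3 h4 h5 h6 h7 f₁ hf₁ hdeg h0

end Cfsg.Agent.Helper62.Ore
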