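import Mathlib
import Cfsg.Agent.Helper62.Ore.Defs

/-!
# S2444: glue lemmas (restriction to the hyperplane `ker ε`)
-/

set_option autoImplicit false

namespace Cfsg.Agent.Helper62.Ore

open Polynomial Module

variable {F : Type*} [Field F] {V : Type*} [AddCommGroup V] [Module F V]

theorem finrank_ker_dual [FiniteDimensional F V] {k : ℕ} (hn : finrank F V = k + 1)
    (ε : Module.Dual F V) (hε : ε ≠ 0) : finrank F ↥(LinearMap.ker ε) = k := by
  have h1 := LinearMap.finrank_range_add_finrank_ker ε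
  have h2 : LinearMap.range ε = ⊤ := by
    rw [LinearMap.range_eq_top]
    exact (LinearMap.surjective_iff_ne_zero (f := ε)).mpr hε
  rw [h2, finrank_top, finrank_self] at h1
  omega

theorem pow_coe_ker (ε : Module.Dual F V) (Y : Module.End F V)
    (Y₁ : Module.End F ↥(LinearMap.ker ε))
    (h : ∀ x : ↥(LinearMap.ker ε), Y (x : V) = (Y₁ x : V)) (i : ℕ) (x : ↥(LinearMap.ker ε)) :
    (Y ^ i) (x : V) = ((Y₁ ^ i) x : V) := by
  induction i generalizing x with
  | zero => simp
  | succ i ih => rw [pow_succ, pow_succ, Module.End.mul_apply, Module.End.mul_apply, h, ih]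

theorem aeval_coe_ker (ε : Module.Dual F V) (Y : Module.End F V)
    (Y₁ : Module.End F ↥(LinearMap.ker ε))
    (h : ∀ x : ↥(LinearMap.ker ε), Y (x : V) = (Y₁ x : V)) (p : F[X]) (x : ↥(LinearMap.ker ε)) :
    (aeval Y p) (x : V) = ((aeval Y₁ p) x : V) := by
  induction p using Polynomial.induction_on' with
  | add p q hp hq => simp [hp, hq]
  | monomial n a =>
    simp only [aeval_monomial, Module.End.mul_apply, Module.algebraMap_end_apply]
    rw [pow_coe_ker ε Y Y₁ h]
    simp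

theorem cyc_coe_ker (ε : Module.Dual F V) (Y : Module.End F V)
    (Y₁ : Module.End F ↥(LinearMap.ker ε))
    (h : ∀ x : ↥(LinearMap.ker ε), Y (x : V) = (Y₁ x : V)) {k : ℕ} {b : ↥(LinearMap.ker ε)}
    (hc : Cyc k Y₁ b) : Cyc k Y (b : V) := by
  unfold Cyc at hc ⊢
  have := hc.map' (LinearMap.ker ε).subtype (Submodule.ker_subtype _)
  have he : (fun i : Fin k => (Y ^ (i : ℕ)) (b : V)) =
      ((LinearMap.ker ε).subtype ∘ fun i : Fin k => (Y₁ ^ (i : ℕ)) b) := by
    funext i
    simp [pow_coe_ker ε Y Y₁ h]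
  rw [he]
  exact this

theorem rel_coe_ker (ε : Module.Dual F V) (Y : Module.End F V)
    (Y₁ : Module.End F ↥(LinearMap.ker ε))
    (h : ∀ x : ↥(LinearMap.ker ε), Y (x : V) = (Y₁ x : V)) {k : ℕ} {b : ↥(LinearMap.ker ε)}
    {f : F[X]} (hc : Rel k Y₁ b f) : Rel k Y (b : V) f := by
  refine ⟨hc.1, hc.2.1, ?_⟩
  rw [aeval_coe_ker ε Y Y₁ h, hc.2.2]
  simp

end Cfsg.Agent.Helper62.Ore
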