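import Mathlib
import Cfsg.Agent.Helper62.Ore.Defs
import Cfsg.Agent.Helper62.Ore.Glue
import Cfsg.Agent.Helper62.Ore.ClaimC
import Cfsg.Agent.Helper63.OreEPS
import Cfsg.Agent.Helper33.OreGAM
import Cfsg.Agent.Helper22.OreEXTD
import Cfsg.Agent.Helper49.OreNNIL
import Cfsg.Agent.Helper93.OreNIL
import Cfsg.Agent.Helper29.OreDUAL
import Cfsg.Agent.Helper22.OreREL
import Cfsg.Agent.Helper5.OreUPD
import Cfsg.Agent.Helper66.OreEXT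
import Cfsg.Agent.Helper29.OreDET
import Cfsg.Agent.Helper29.OreSIM
import Cfsg.Agent.Helper59.OreEIG

/-!
# S2444: the nonscalar case, assembled from the farmed pieces
-/

set_option autoImplicit false

namespace Cfsg.Agent.Helper62.Ore

open Polynomial Module

variable {F : Type*} [Field F] {V : Type*} [AddCommGroup V] [Module F V]

theorem poly_facts (s : F) (f₁ : F[X]) (hf₁ : f₁.Monic) {k : ℕ} (hdeg : f₁.natDegree = k) :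
    ((X - C s) * f₁).Monic ∧ ((X - C s) * f₁).natDegree = k + 1 ∧
      ((X - C s) * f₁).coeff 0 = -(s * f₁.coeff 0) := by
  refine ⟨(monic_X_sub_C s).mul hf₁, ?_, ?_⟩
  · rw [(monic_X_sub_C s).natDegree_mul hf₁, natDegree_X_sub_C, hdeg]; omega
  · rw [mul_coeff_zero]; simp

set_option maxHeartbeats 1000000 in
theorem main_nonscalar [FiniteDimensional F V] {m : ℕ} (hn : finrank F V = m + 2)
    (A : V ≃ₗ[F] V) (hdet : LinearMap.det (A : V →ₗ[F] V) = 1)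
    (z : V) (hz : ∀ c : F, A z ≠ c • z) (s : F) (hs : s ≠ 0) (f₁ : F[X]) (hf₁ : f₁.Monic)
    (hdeg : f₁.natDegree = m + 1) (h0 : f₁.coeff 0 ≠ 0) (hfs : f₁.eval s ≠ 0) :
    ∃ (Y X : V ≃ₗ[F] V) (ε : Module.Dual F V) (u : V),
      (∀ x, X (Y x) = A (Y (X x))) ∧
      LinearMap.det (Y : V →ₗ[F] V) = (-1) ^ (m + 2) * (-(s * f₁.coeff 0)) ∧
      ε u = 1 ∧ Y u = s • u ∧ ∀ x, ε (Y x) = s * ε x := by
  obtain ⟨ε, hε0, hεs, hε1⟩ := Cfsg.Agent.Helper63.Ore.exists_eps A z hz s hs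
  have hεne : ε ≠ 0 := by
    intro h; rw [h] at hεs; simp at hεs; exact hs hεs.symm
  have hH : finrank F ↥(LinearMap.ker ε) = m + 1 := finrank_ker_dual hn ε hεne
  obtain ⟨hk, hd⟩ := Cfsg.Agent.Helper33.Ore.Gamma_props A ε z s hs hεs hε0 hε1
  obtain ⟨Y₁, b, hcyc₁, hrel₁, hnil⟩ :=
    Qlemma hH (GammaMap A ε z s hs hεs) hk hd f₁ hf₁ hdeg h0
  have hy : ε (s⁻¹ • A.symm z) = 1 := by
    rw [map_smul, hεs, smul_eq_mul, inv_mul_cancel₀ hs]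
  obtain ⟨Y₀, hY₀, hεY₀⟩ := Cfsg.Agent.Helper22.Ore.exists_extend ε _ hy s hs Y₁
  have hN := Cfsg.Agent.Helper49.Ore.N_nilpotent A ε z s hs hεs Y₁ Y₀ hY₀ hεY₀ hnil
  have hinv := Cfsg.Agent.Helper93.Ore.no_invariant_of_nilpotent (Y₀.trans A) ε z hN
  obtain ⟨ζ, hζcyc, hζ0, hζ1⟩ :=
    Cfsg.Agent.Helper29.Ore.exists_dual_cyc hn (by omega) ((Y₀.trans A : V ≃ₗ[F] V) : V →ₗ[F] V) ε hinv
  obtain ⟨g, hg⟩ := Cfsg.Agent.Helper22.Ore.exists_rel hn hζcyc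
  obtain ⟨hfm, hfd, hf0⟩ := poly_facts s f₁ hf₁ hdeg
  obtain ⟨hB'cyc, hB'rel⟩ := Cfsg.Agent.Helper5.Ore.cyc_update hn ε hζcyc hg hfm hfd hζ0 hζ1
  -- `Y₀` is cyclic with relation `f`
  have hY₀' : ∀ x : ↥(LinearMap.ker ε),
      (Y₀ : V →ₗ[F] V) (x : V) =
        ((Y₁ : ↥(LinearMap.ker ε) →ₗ[F] ↥(LinearMap.ker ε)) x : V) := fun x => hY₀ x
  have hcycY₀ : Cyc (m + 1) (Y₀ : V →ₗ[F] V) (b : V) := cyc_coe_ker ε _ _ hY₀' hcyc₁
  have hrelY₀ : Rel (m + 1) (Y₀ : V →ₗ[F] V) (b : V) f₁ := rel_coe_ker ε _ _ hY₀' hrel₁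
  obtain ⟨u₀, hu₀cyc, hu₀rel⟩ := Cfsg.Agent.Helper66.Ore.cyc_of_eigen_ext hn (Y₀ : V →ₗ[F] V) ε hεne s hεY₀ (b : V)
    b.2 f₁ hcycY₀ hrelY₀ hfs
  have hdetY₀ := Cfsg.Agent.Helper29.Ore.det_of_rel hn hu₀cyc hu₀rel
  have hdetB₀ := Cfsg.Agent.Helper29.Ore.det_of_rel hn hζcyc hg
  have hgf : g.coeff 0 = ((X - C s) * f₁).coeff 0 := by
    have h1 : LinearMap.det (((Y₀.trans A : V ≃ₗ[F] V) : V →ₗ[F] V)) =
        LinearMap.det (A : V →ₗ[F] V) * LinearMap.det (Y₀ : V →ₗ[F] V) := by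
      rw [← LinearMap.det_comp]; rfl
    rw [hdetB₀, hdet, one_mul, hdetY₀] at h1
    have h2 : ((-1 : F) ^ (m + 2)) ≠ 0 := pow_ne_zero _ (by norm_num)
    exact mul_left_cancel₀ h2 h1
  -- the correction vector `q = A⁻¹ w` lies in `ker ε`
  have hq : ε (A.symm (∑ i ∈ Finset.range (m + 2),
      (g.coeff i - ((X - C s) * f₁).coeff i) •
        ((((Y₀.trans A : V ≃ₗ[F] V) : V →ₗ[F] V) ^ i) ζ))) = 0 := by
    rw [map_sum, map_sum]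
    apply Finset.sum_eq_zero
    intro i hi
    rw [map_smul, map_smul]
    rcases Nat.eq_zero_or_pos i with rfl | hipos
    · rw [hgf, sub_self, zero_smul]
    · obtain ⟨j, rfl⟩ := Nat.exists_eq_succ_of_ne_zero hipos.ne'
      rw [pow_succ', Module.End.mul_apply]
      have h3 : A.symm ((((Y₀.trans A : V ≃ₗ[F] V) : V →ₗ[F] V))
          (((((Y₀.trans A : V ≃ₗ[F] V) : V →ₗ[F] V)) ^ j) ζ)) =
          Y₀ (((((Y₀.trans A : V ≃ₗ[F] V) : V →ₗ[F] V)) ^ j) ζ) := by simp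
      rw [h3, hεY₀, hζ0 j (by have := Finset.mem_range.mp hi; omega)]
      simp
  obtain ⟨w, hw⟩ : ∃ w : V, w = ∑ i ∈ Finset.range (m + 2),
      (g.coeff i - ((X - C s) * f₁).coeff i) •
        ((((Y₀.trans A : V ≃ₗ[F] V) : V →ₗ[F] V) ^ i) ζ) := ⟨_, rfl⟩
  rw [← hw] at hq hB'cyc hB'rel
  -- the corrected operator
  obtain ⟨Yl, hYl⟩ : ∃ Yl : Module.End F V,
      Yl = (Y₀ : V →ₗ[F] V) + ε.smulRight (A.symm w) := ⟨_, rfl⟩
  have hYlx : ∀ x, Yl x = Y₀ x + ε x • A.symm w := by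
    intro x; rw [hYl]; simp
  have hεYl : ∀ x, ε (Yl x) = s * ε x := by
    intro x; rw [hYlx, map_add, map_smul, hεY₀, hq]; simp
  have hYl' : ∀ x : ↥(LinearMap.ker ε),
      Yl (x : V) = ((Y₁ : ↥(LinearMap.ker ε) →ₗ[F] ↥(LinearMap.ker ε)) x : V) := by
    intro x
    rw [hYlx, (LinearMap.mem_ker.mp x.2), zero_smul, add_zero]
    exact hY₀ x
  have hAYl : ∀ x, A (Yl x) =
      (((Y₀.trans A : V ≃ₗ[F] V) : V →ₗ[F] V) + ε.smulRight w) x := by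
    intro x; rw [hYlx]; simp
  obtain ⟨u₁, hu₁cyc, hu₁rel⟩ := Cfsg.Agent.Helper66.Ore.cyc_of_eigen_ext hn Yl ε hεne s hεYl (b : V)
    b.2 f₁ (cyc_coe_ker ε _ _ hYl' hcyc₁) (rel_coe_ker ε _ _ hYl' hrel₁) hfs
  obtain ⟨X, hX⟩ := Cfsg.Agent.Helper29.Ore.exists_conj_of_cyc hn hu₁cyc hu₁rel hB'cyc hB'rel
  have hdetYl := Cfsg.Agent.Helper29.Ore.det_of_rel hn hu₁cyc hu₁rel
  rw [hf0] at hdetYl
  have hdetne : IsUnit (LinearMap.det Yl) := by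
    rw [hdetYl, isUnit_iff_ne_zero]
    exact mul_ne_zero (pow_ne_zero _ (by norm_num)) (neg_ne_zero.mpr (mul_ne_zero hs h0))
  obtain ⟨u, hu1, hu2⟩ := Cfsg.Agent.Helper59.Ore.exists_eigen hn Yl ε hεne s hεYl u₁ f₁ hf₁ hdeg hu₁cyc hu₁rel hfs
  refine ⟨LinearMap.equivOfIsUnitDet hdetne, X, ε, u, ?_, ?_, hu1, ?_, ?_⟩
  · intro x
    rw [LinearMap.equivOfIsUnitDet_apply, LinearMap.equivOfIsUnitDet_apply, hX, hAYl]
  · rw [LinearMap.coe_equivOfIsUnitDet]; exact hdetYl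
  · rw [LinearMap.equivOfIsUnitDet_apply]; exact hu2
  · intro x; rw [LinearMap.equivOfIsUnitDet_apply]; exact hεYl x

end Cfsg.Agent.Helper62.Ore
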