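import Mathlib
import Cfsg.Agent.Helper62.Ore.Defs

/-!
# S2444: small pieces (NONSC), (CARD), (POLY), (MAT)
-/

set_option autoImplicit false

namespace Cfsg.Agent.Helper62.Ore

open Polynomial Module

variable {F : Type*} [Field F] {V : Type*} [AddCommGroup V] [Module F V]

/-- (NONSC) an operator that is not a scalar has a vector that is not an eigenvector. -/
theorem exists_not_eigen (A : Module.End F V) (h : ∀ c : F, A ≠ c • LinearMap.id) :
    ∃ z : V, ∀ c : F, A z ≠ c • z := by
  by_contra hcon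
  push Not at hcon
  have h2 : ∀ v, ¬ LinearIndependent F ![v, A v] := by
    intro v hLI
    obtain ⟨c, hc⟩ := hcon v
    rw [LinearIndependent.pair_iff] at hLI
    have := hLI c (-1) (by rw [hc]; simp)
    simp at this
  obtain ⟨a, ha⟩ := LinearMap.exists_eq_smul_id_of_forall_notLinearIndependent h2
  exact h a ha

/-- (CARD) a field with at least 4 elements has `s ≠ 0` with `s² ≠ 1`. -/
theorem exists_sq_ne_one {F : Type*} [Field F] [Fintype F] (h : 4 ≤ Fintype.card F) :
    ∃ s : F, s ≠ 0 ∧ s * s ≠ 1 := by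
  classical
  by_contra hcon
  push Not at hcon
  have hsub : (Finset.univ : Finset F) ⊆ {0, 1, -1} := by
    intro s _
    by_cases hs : s = 0
    · simp [hs]
    · have h1 := hcon s hs
      have h2 : (s - 1) * (s + 1) = 0 := by linear_combination h1
      rcases mul_eq_zero.mp h2 with h3 | h3
      · have : s = 1 := by linear_combination h3
        simp [this]
      · have : s = -1 := by linear_combination h3
        simp [this]
  have hc := Finset.card_le_card hsub
  rw [Finset.card_univ] at hc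
  have h3 : ({0, 1, -1} : Finset F).card ≤ 3 := Finset.card_le_three
  omega

/-- (POLY) choice of `s` and `f₁`. -/
theorem exists_poly (m : ℕ) (hex : m = 0 → ∃ s : F, s ≠ 0 ∧ s * s ≠ 1) :
    ∃ (s : F) (f₁ : F[X]), s ≠ 0 ∧ f₁.Monic ∧ f₁.natDegree = m + 1 ∧ f₁.coeff 0 ≠ 0 ∧
      f₁.eval s ≠ 0 ∧ (-1 : F) ^ (m + 2) * (-(s * f₁.coeff 0)) = 1 := by
  rcases Nat.eq_zero_or_pos m with hm | hm
  · subst hm
    obtain ⟨s, hs, hs2⟩ := hex rfl
    refine ⟨s, X + C (-s⁻¹), hs, monic_X_add_C _, natDegree_X_add_C _, ?_, ?_, ?_⟩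
    · simp [hs]
    · simp only [eval_add, eval_X, eval_C]
      intro h
      apply hs2
      field_simp at h
      linear_combination h
    · simp only [coeff_add, coeff_X_zero, coeff_C_zero, zero_add]
      field_simp
  · set c : F := (-1) ^ (m + 1) with hc
    have hc0 : c ≠ 0 := pow_ne_zero _ (by norm_num)
    have hdeg : (X - C c : F[X]).degree < ((m + 1 : ℕ) : WithBot ℕ) := by
      rw [degree_X_sub_C]
      exact_mod_cast (by omega : 1 < m + 1)
    have hmon : (X ^ (m + 1) - (X - C c) : F[X]).Monic := monic_X_pow_sub hdeg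
    have hnat : (X ^ (m + 1) - (X - C c) : F[X]).natDegree = m + 1 := by
      rw [natDegree_sub_eq_left_of_natDegree_lt]
      · simp
      · rw [natDegree_X_sub_C, natDegree_X_pow]; omega
    refine ⟨1, X ^ (m + 1) - (X - C c), one_ne_zero, hmon, hnat, ?_, ?_, ?_⟩
    · simp [hc0]
    · simp [hc0]
    · simp only [coeff_sub, coeff_X_pow, coeff_X_zero, coeff_C_zero]
      have : (0 : ℕ) ≠ m + 1 := by omega
      simp only [this, if_false]
      rw [hc]
      have h2 : ((-1 : F) ^ (m + 1)) * ((-1 : F) ^ (m + 1)) = 1 := by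
        rw [← mul_pow]; simp
      rw [pow_succ (-1 : F) (m + 1)]
      linear_combination h2

/-- (MAT) from linear equivalences back to `SL_n`. -/
theorem commutator_of_equivs {F : Type*} [Field F] (n : ℕ)
    (g : Matrix.SpecialLinearGroup (Fin n) F)
    (Y X : (Fin n → F) ≃ₗ[F] (Fin n → F))
    (hY : LinearMap.det (Y : (Fin n → F) →ₗ[F] (Fin n → F)) = 1)
    (hX : LinearMap.det (X : (Fin n → F) →ₗ[F] (Fin n → F)) = 1)
    (h : ∀ x, X (Y x) = (Matrix.SpecialLinearGroup.toLin' g) (Y (X x))) :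
    ∃ a b : Matrix.SpecialLinearGroup (Fin n) F, g = a * b * a⁻¹ * b⁻¹ := by
  let a : Matrix.SpecialLinearGroup (Fin n) F :=
    ⟨LinearMap.toMatrix' (X : (Fin n → F) →ₗ[F] (Fin n → F)), by
      rw [LinearMap.det_toMatrix']; exact hX⟩
  let b : Matrix.SpecialLinearGroup (Fin n) F :=
    ⟨LinearMap.toMatrix' (Y : (Fin n → F) →ₗ[F] (Fin n → F)), by
      rw [LinearMap.det_toMatrix']; exact hY⟩
  have hlin : (X : (Fin n → F) →ₗ[F] (Fin n → F)) ∘ₗ (Y : (Fin n → F) →ₗ[F] (Fin n → F)) =
      Matrix.toLin' (g : Matrix (Fin n) (Fin n) F) ∘ₗ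
        ((Y : (Fin n → F) →ₗ[F] (Fin n → F)) ∘ₗ (X : (Fin n → F) →ₗ[F] (Fin n → F))) := by
    apply LinearMap.ext
    intro x
    have h1 := h x
    have h2 : (Matrix.SpecialLinearGroup.toLin' g) (Y (X x)) =
        Matrix.toLin' (g : Matrix (Fin n) (Fin n) F) (Y (X x)) := by
      rw [← Matrix.SpecialLinearGroup.toLin'_to_linearMap]; rfl
    rw [h2] at h1
    simpa using h1
  have hmat : (a * b : Matrix.SpecialLinearGroup (Fin n) F) = g * b * a := by
    apply Subtype.ext
    have := congrArg LinearMap.toMatrix' hlin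
    rw [LinearMap.toMatrix'_comp, LinearMap.toMatrix'_comp, LinearMap.toMatrix'_comp,
      LinearMap.toMatrix'_toLin'] at this
    simp only [Matrix.SpecialLinearGroup.coe_mul]
    rw [Matrix.mul_assoc]
    exact this
  refine ⟨a, b, ?_⟩
  have : g = a * b * (b * a)⁻¹ := by
    rw [hmat]; group
  rw [this]; group

end Cfsg.Agent.Helper62.Ore
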