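import Mathlib
import Cfsg.Agent.Helper62.Ore.Defs
import Cfsg.Agent.Helper62.Ore.Small
import Cfsg.Agent.Helper62.Ore.Main
import Cfsg.Agent.Helper22.OreCENT
import Cfsg.Agent.Helper32.OreSCA
import Cfsg.Agent.Helper60.OreSCB

/-!
# S2444: the theorem
-/

set_option autoImplicit false

namespace Cfsg.Agent.Helper62.Ore

open Polynomial Module

section
variable {F : Type*} [Field F] {V : Type*} [AddCommGroup V] [Module F V]

theorem commutator_of_nonscalar [FiniteDimensional F V] {m : ℕ} (hn : finrank F V = m + 2)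
    (A : V ≃ₗ[F] V) (hdet : LinearMap.det (A : V →ₗ[F] V) = 1)
    (hA : ∀ c : F, (A : V →ₗ[F] V) ≠ c • LinearMap.id)
    (hex : m = 0 → ∃ s : F, s ≠ 0 ∧ s * s ≠ 1) :
    ∃ (Y X : V ≃ₗ[F] V), LinearMap.det (Y : V →ₗ[F] V) = 1 ∧
      LinearMap.det (X : V →ₗ[F] V) = 1 ∧ ∀ x, X (Y x) = A (Y (X x)) := by
  obtain ⟨z, hz⟩ := exists_not_eigen (A : V →ₗ[F] V) hA
  obtain ⟨s, f₁, hs, hf₁, hdeg, h0, hfs, hone⟩ := exists_poly (F := F) m hex
  obtain ⟨Y, X₀, ε, u, hX₀, hdetY, hu1, hu2, hεY⟩ :=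
    main_nonscalar hn A hdet z (fun c => hz c) s hs f₁ hf₁ hdeg h0 hfs
  have hX₀ne : LinearMap.det (X₀ : V →ₗ[F] V) ≠ 0 := by
    have := X₀.isUnit_det'
    exact this.ne_zero
  obtain ⟨S, hS, hdetS⟩ := Cfsg.Agent.Helper22.Ore.exists_commute_det (Y : V →ₗ[F] V) ε u s hu1 hu2 hεY
    (LinearMap.det (X₀ : V →ₗ[F] V))⁻¹ (inv_ne_zero hX₀ne)
  refine ⟨Y, S.trans X₀, ?_, ?_, ?_⟩
  · rw [hdetY, hone]
  · have : ((S.trans X₀ : V ≃ₗ[F] V) : V →ₗ[F] V) =
        (X₀ : V →ₗ[F] V) ∘ₗ (S : V →ₗ[F] V) := rfl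
    rw [this, LinearMap.det_comp, hdetS, mul_inv_cancel₀ hX₀ne]
  · intro x
    simp only [LinearEquiv.trans_apply]
    have := hS x
    simp only [LinearEquiv.coe_coe] at this
    rw [this, hX₀]

end



/-- (SCC) scalar matrices of `SL_n(F_q)` are commutators. -/
theorem scalar_commutator {F : Type*} [Field F] [Fintype F] (n : ℕ) (hn : 2 ≤ n)
    (g : Matrix.SpecialLinearGroup (Fin n) F) (α : F)
    (hg : (g : Matrix (Fin n) (Fin n) F) = α • (1 : Matrix (Fin n) (Fin n) F)) :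
    ∃ a b : Matrix.SpecialLinearGroup (Fin n) F, g = a * b * a⁻¹ * b⁻¹ := by
  have hαn : α ^ n = 1 := by
    have h1 := g.2
    rw [hg, Matrix.det_smul, Matrix.det_one, mul_one, Fintype.card_fin] at h1
    exact h1
  rcases Nat.even_or_odd' n with ⟨k, rfl | rfl⟩
  · -- n = 2 k
    have hsq : (α ^ k - 1) * (α ^ k + 1) = 0 := by
      have : α ^ (2 * k) = (α ^ k) ^ 2 := by rw [← pow_mul, mul_comm]
      rw [this] at hαn
      linear_combination hαn
    rcases mul_eq_zero.mp hsq with h1 | h1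
    · refine Cfsg.Agent.Helper32.Ore.scalar_easy (2 * k) (by omega) g α hg ?_
      have hk1 : α ^ k = 1 := by linear_combination h1
      have he : 2 * k * (2 * k - 1) / 2 = k * (2 * k - 1) := by
        rw [mul_assoc, Nat.mul_div_cancel_left _ (by norm_num : 0 < 2)]
      rw [he, pow_mul, hk1, one_pow]
    · exact Cfsg.Agent.Helper60.Ore.scalar_hard k (by omega) g α hg (by linear_combination h1)
  · -- n = 2 k + 1
    refine Cfsg.Agent.Helper32.Ore.scalar_easy (2 * k + 1) (by omega) g α hg ?_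
    have he : (2 * k + 1) * (2 * k + 1 - 1) / 2 = (2 * k + 1) * k := by
      have : (2 * k + 1) * (2 * k + 1 - 1) = 2 * ((2 * k + 1) * k) := by
        simp only [Nat.add_sub_cancel]; ring
      rw [this, Nat.mul_div_cancel_left _ (by norm_num : 0 < 2)]
    rw [he, pow_mul, hαn, one_pow]



theorem ore_SL {F : Type*} [Field F] [Fintype F] (n : ℕ) (hn : 2 ≤ n)
    (hex : n = 2 → 4 ≤ Fintype.card F) :
    ∀ g : Matrix.SpecialLinearGroup (Fin n) F,
      ∃ a b : Matrix.SpecialLinearGroup (Fin n) F, g = a * b * a⁻¹ * b⁻¹ := by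
  intro g
  by_cases hsc : ∃ α : F, (g : Matrix (Fin n) (Fin n) F) = α • (1 : Matrix (Fin n) (Fin n) F)
  · obtain ⟨α, hα⟩ := hsc
    exact scalar_commutator n hn g α hα
  · obtain ⟨m, rfl⟩ : ∃ m, n = m + 2 := ⟨n - 2, by omega⟩
    have hfr : finrank F (Fin (m + 2) → F) = m + 2 := by simp
    have hdet : LinearMap.det ((Matrix.SpecialLinearGroup.toLin' g :
        (Fin (m + 2) → F) ≃ₗ[F] (Fin (m + 2) → F)) :
        (Fin (m + 2) → F) →ₗ[F] (Fin (m + 2) → F)) = 1 := by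
      rw [Matrix.SpecialLinearGroup.toLin'_to_linearMap, LinearMap.det_toLin']
      exact g.2
    have hA : ∀ c : F, ((Matrix.SpecialLinearGroup.toLin' g :
        (Fin (m + 2) → F) ≃ₗ[F] (Fin (m + 2) → F)) :
        (Fin (m + 2) → F) →ₗ[F] (Fin (m + 2) → F)) ≠ c • LinearMap.id := by
      intro c hc
      apply hsc
      refine ⟨c, ?_⟩
      rw [Matrix.SpecialLinearGroup.toLin'_to_linearMap] at hc
      have h2 : Matrix.toLin' (c • (1 : Matrix (Fin (m + 2)) (Fin (m + 2)) F)) =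
          c • LinearMap.id := by
        rw [map_smul, Matrix.toLin'_one]
      rw [← h2] at hc
      exact Matrix.toLin'.injective hc
    have hex' : m = 0 → ∃ s : F, s ≠ 0 ∧ s * s ≠ 1 := by
      intro hm
      exact exists_sq_ne_one (hex (by omega))
    obtain ⟨Y, X, hY, hX, h⟩ := commutator_of_nonscalar hfr _ hdet hA hex'
    exact commutator_of_equivs (m + 2) g Y X hY hX h

end Cfsg.Agent.Helper62.Ore
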